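import Mathlib

/-! # Directed colimits of sheaves of sets: sections -/

set_option autoImplicit false
set_option backward.isDefEq.respectTransparency false
universe u

open CategoryTheory CategoryTheory.Limits TopologicalSpace Opposite TopCat

noncomputable section

namespace Groth.Agent.ShDirColim

variable {X : TopCat.{u}} {J : Type u} [Preorder J] [Nonempty J] [IsDirected J (· ≤ ·)]
  (F : J ⥤ X.Sheaf (Type u)) (c : Cocone F) (hc : IsColimit c)

/-- restriction -/
abbrev rs (G : X.Sheaf (Type u)) {V W : Opens X} (h : W ≤ V) (s : G.1.obj (op V)) : G.1.obj (op W) :=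
  G.1.map (homOfLE h).op s

lemma rs_rs (G : X.Sheaf (Type u)) {U V W : Opens X} (h : V ≤ U) (h' : W ≤ V) (s : G.1.obj (op U)) :
    rs G h' (rs G h s) = rs G (h'.trans h) s :=
  (ConcreteCategory.congr_hom (G.1.map_comp (homOfLE h).op (homOfLE h').op) s).symm

/-- transition -/
abbrev tr {i j : J} (h : i ≤ j) {V : Opens X} (s : (F.obj i).1.obj (op V)) : (F.obj j).1.obj (op V) :=
  (F.map (homOfLE h)).1.app (op V) s

/-- map to the colimit sheaf -/
abbrev toc (i : J) {V : Opens X} (s : (F.obj i).1.obj (op V)) : c.pt.1.obj (op V) :=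
  (c.ι.app i).1.app (op V) s

lemma tr_rs {i j : J} (h : i ≤ j) {V W : Opens X} (hW : W ≤ V) (s : (F.obj i).1.obj (op V)) :
    tr F h (rs (F.obj i) hW s) = rs (F.obj j) hW (tr F h s) :=
  ConcreteCategory.congr_hom ((F.map (homOfLE h)).1.naturality (homOfLE hW).op) s

lemma toc_rs (i : J) {V W : Opens X} (hW : W ≤ V) (s : (F.obj i).1.obj (op V)) :
    toc F c i (rs (F.obj i) hW s) = rs c.pt hW (toc F c i s) :=
  ConcreteCategory.congr_hom ((c.ι.app i).1.naturality (homOfLE hW).op) s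

lemma toc_tr {i j : J} (h : i ≤ j) {V : Opens X} (s : (F.obj i).1.obj (op V)) :
    toc F c j (tr F h s) = toc F c i s :=
  ConcreteCategory.congr_hom (congrArg (fun φ : F.obj i ⟶ c.pt => φ.1.app (op V)) (c.w (homOfLE h))) s

lemma tr_tr {i j k : J} (h : i ≤ j) (h' : j ≤ k) {V : Opens X} (s : (F.obj i).1.obj (op V)) :
    tr F h' (tr F h s) = tr F (h.trans h') s :=
  (ConcreteCategory.congr_hom (congrArg (fun φ : F.obj i ⟶ F.obj k => φ.1.app (op V))
    (F.map_comp (homOfLE h) (homOfLE h'))) s).symm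

/-- the stalk functor on sheaves -/
abbrev stalkF (x : X) : X.Sheaf (Type u) ⥤ Type u :=
  TopCat.Sheaf.forget (Type u) X ⋙ TopCat.Presheaf.stalkFunctor (Type u) x

include hc in
lemma isColimit_stalk (x : X) : Nonempty (IsColimit ((stalkF x).mapCocone c)) := by
  classical
  haveI := (stalkSkyscraperSheafAdjunction (C := Type u) x).leftAdjoint_preservesColimits
  exact ⟨isColimitOfPreserves _ hc⟩

include hc in
lemma locally_surjective {V : Opens X} (s : c.pt.1.obj (op V)) (x : X) (hx : x ∈ V) :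
    ∃ (W : Opens X) (hW : W ≤ V) (i : J) (t : (F.obj i).1.obj (op W)), x ∈ W ∧ toc F c i t = rs c.pt hW s := by
  obtain ⟨h⟩ := isColimit_stalk F c hc x
  obtain ⟨i, y, hy⟩ := Types.jointly_surjective _ h (TopCat.Presheaf.germ c.pt.presheaf V x hx s)
  obtain ⟨W₀, hxW₀, t, rfl⟩ := TopCat.Presheaf.exists_germ_eq (F.obj i).presheaf y
  have h2 : TopCat.Presheaf.germ c.pt.presheaf W₀ x hxW₀ (toc F c i t) =
      TopCat.Presheaf.germ c.pt.presheaf V x hx s := by
    rw [← hy]
    exact (ConcreteCategory.congr_hom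
      (TopCat.Presheaf.stalkFunctor_map_germ W₀ x hxW₀ (c.ι.app i).1) t).symm
  obtain ⟨W, hxW, iW₀, iV, he⟩ := c.pt.presheaf.germ_eq x hxW₀ hx _ _ h2
  exact ⟨W, iV.le, i, rs (F.obj i) iW₀.le t, hxW, (toc_rs F c i iW₀.le t).trans he⟩

include hc in
lemma locally_injective {V : Opens X} {i j : J} (s : (F.obj i).1.obj (op V)) (t : (F.obj j).1.obj (op V))
    (h : toc F c i s = toc F c j t) (x : X) (hx : x ∈ V) :
    ∃ (W : Opens X) (hW : W ≤ V) (k : J) (hi : i ≤ k) (hj : j ≤ k),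
      x ∈ W ∧ rs (F.obj k) hW (tr F hi s) = rs (F.obj k) hW (tr F hj t) := by
  obtain ⟨hl⟩ := isColimit_stalk F c hc x
  have h1 : ((stalkF x).mapCocone c).ι.app i (TopCat.Presheaf.germ (F.obj i).presheaf V x hx s) =
      ((stalkF x).mapCocone c).ι.app j (TopCat.Presheaf.germ (F.obj j).presheaf V x hx t) := by
    refine (ConcreteCategory.congr_hom (TopCat.Presheaf.stalkFunctor_map_germ V x hx (c.ι.app i).1) s).trans ?_
    refine Eq.trans ?_
      (ConcreteCategory.congr_hom (TopCat.Presheaf.stalkFunctor_map_germ V x hx (c.ι.app j).1) t).symm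
    exact congrArg (TopCat.Presheaf.germ c.pt.presheaf V x hx) h
  obtain ⟨k, fi, fj, hk⟩ := (Types.FilteredColimit.isColimit_eq_iff _ hl).mp h1
  have h2 : TopCat.Presheaf.germ (F.obj k).presheaf V x hx (tr F (leOfHom fi) s) =
      TopCat.Presheaf.germ (F.obj k).presheaf V x hx (tr F (leOfHom fj) t) := by
    refine (ConcreteCategory.congr_hom
      (TopCat.Presheaf.stalkFunctor_map_germ V x hx (F.map (homOfLE (leOfHom fi))).1) s).symm.trans ?_
    refine Eq.trans ?_ (ConcreteCategory.congr_hom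
      (TopCat.Presheaf.stalkFunctor_map_germ V x hx (F.map (homOfLE (leOfHom fj))).1) t)
    exact hk
  obtain ⟨W, hxW, i₁, i₂, he⟩ := (F.obj k).presheaf.germ_eq x hx hx _ _ h2
  exact ⟨W, i₁.le, k, leOfHom fi, leOfHom fj, hxW, he⟩

/-- all transition maps injective on sections -/
def Inj : Prop := ∀ (i j : J) (h : i ⟶ j) (V : Opens X), Function.Injective ((F.map h).1.app (op V))

include hc in
lemma eq_of_inj (hinj : Inj F) {V : Opens X} {i : J} (s t : (F.obj i).1.obj (op V))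
    (h : toc F c i s = toc F c i t) : s = t := by
  choose W hW k hi hj hxW he using fun x : V => locally_injective F c hc s t h x.1 x.2
  refine TopCat.Sheaf.eq_of_locally_eq' (F.obj i) W V (fun x => homOfLE (hW x))
    (fun x hx => Opens.mem_iSup.mpr ⟨⟨x, hx⟩, hxW ⟨x, hx⟩⟩) s t fun x => ?_
  refine hinj i (k x) (homOfLE (hi x)) (W x) ?_
  exact (tr_rs F (hi x) (hW x) s).trans ((he x).trans (tr_rs F (hi x) (hW x) t).symm)

include hc in
lemma eq_of_compact {V : Opens X} (hV : IsCompact (V : Set X)) {i : J} (s t : (F.obj i).1.obj (op V))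
    (h : toc F c i s = toc F c i t) : ∃ (k : J) (hk : i ≤ k), tr F hk s = tr F hk t := by
  classical
  choose W hW k hi hj hxW he using fun x : V => locally_injective F c hc s t h x.1 x.2
  obtain ⟨S, hS⟩ := hV.elim_finite_subcover (fun x : V => (W x : Set X)) (fun x => (W x).isOpen)
    fun x hx => Set.mem_iUnion.mpr ⟨⟨x, hx⟩, hxW ⟨x, hx⟩⟩
  obtain ⟨M, hM⟩ := Finset.exists_le (insert i (S.image k))
  refine ⟨M, hM _ (Finset.mem_insert_self _ _), ?_⟩
  refine TopCat.Sheaf.eq_of_locally_eq' (F.obj M) (fun x : S => W x.1) V (fun x => homOfLE (hW x.1))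
    (fun x hx => ?_) _ _ fun x => ?_
  · obtain ⟨y, hy, hxy⟩ := Set.mem_iUnion₂.mp (hS hx)
    exact Opens.mem_iSup.mpr ⟨⟨y, hy⟩, hxy⟩
  · have hk : k x.1 ≤ M := hM _ (Finset.mem_insert_of_mem (Finset.mem_image_of_mem _ x.2))
    show rs (F.obj M) (hW x.1) (tr F _ s) = rs (F.obj M) (hW x.1) (tr F _ t)
    rw [← tr_tr F (hi x.1) hk, ← tr_tr F (hi x.1) hk, ← tr_rs F hk, ← tr_rs F hk, he x.1]

include hc in
lemma exists_section {V : Opens X} (s : c.pt.1.obj (op V)) {m : ℕ} (W : Fin m → Opens X)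
    (hle : ∀ l, W l ≤ V) (hcov : V ≤ ⨆ l, W l)
    (hlift : ∀ l, ∃ (i : J) (t : (F.obj i).1.obj (op (W l))), toc F c i t = rs c.pt (hle l) s)
    (hpair : ∀ l l', Inj F ∨ IsCompact ((W l ⊓ W l' : Opens X) : Set X)) :
    ∃ (i : J) (t : (F.obj i).1.obj (op V)), toc F c i t = s := by
  classical
  choose k t ht using hlift
  obtain ⟨M, hM⟩ := Finset.exists_le (Finset.univ.image k)
  have hkM : ∀ l, k l ≤ M := fun l => hM _ (Finset.mem_image_of_mem _ (Finset.mem_univ l))
  let T : ∀ l, (F.obj M).1.obj (op (W l)) := fun l => tr F (hkM l) (t l)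
  have hT : ∀ l l', ∃ (N : J) (hN : M ≤ N),
      tr F hN (rs (F.obj M) (inf_le_left : W l ⊓ W l' ≤ W l) (T l)) =
        tr F hN (rs (F.obj M) (inf_le_right : W l ⊓ W l' ≤ W l') (T l')) := by
    intro l l'
    have h : toc F c M (rs (F.obj M) (inf_le_left : W l ⊓ W l' ≤ W l) (T l)) =
        toc F c M (rs (F.obj M) (inf_le_right : W l ⊓ W l' ≤ W l') (T l')) := by
      rw [toc_rs, toc_rs, toc_tr, toc_tr, ht, ht, rs_rs, rs_rs]
    rcases hpair l l' with hinj | hcpt
    · exact ⟨M, le_rfl, congrArg _ (eq_of_inj F c hc hinj _ _ h)⟩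
    · exact eq_of_compact F c hc hcpt _ _ h
  choose N hN hNe using hT
  obtain ⟨P, hP⟩ := Finset.exists_le (insert M (Finset.univ.image fun p : Fin m × Fin m => N p.1 p.2))
  have hMP : M ≤ P := hP _ (Finset.mem_insert_self _ _)
  have hNP : ∀ l l', N l l' ≤ P := fun l l' =>
    hP _ (Finset.mem_insert_of_mem (Finset.mem_image_of_mem _ (Finset.mem_univ (l, l'))))
  have hcompat : TopCat.Presheaf.IsCompatible (F.obj P).1 W fun l => tr F hMP (T l) := by
    intro l l'
    show rs (F.obj P) (inf_le_left : W l ⊓ W l' ≤ W l) (tr F hMP (T l)) =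
      rs (F.obj P) (inf_le_right : W l ⊓ W l' ≤ W l') (tr F hMP (T l'))
    refine (tr_rs F hMP _ (T l)).symm.trans (Eq.trans ?_ (tr_rs F hMP _ (T l')))
    exact (tr_tr F (hN l l') (hNP l l') _).symm.trans
      ((congrArg (tr F (hNP l l')) (hNe l l')).trans (tr_tr F (hN l l') (hNP l l') _))
  obtain ⟨g, hg, -⟩ := TopCat.Sheaf.existsUnique_gluing' (F.obj P) W V (fun l => homOfLE (hle l)) hcov _ hcompat
  refine ⟨P, g, TopCat.Sheaf.eq_of_locally_eq' c.pt W V (fun l => homOfLE (hle l)) hcov _ _ fun l => ?_⟩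
  show rs c.pt (hle l) (toc F c P g) = rs c.pt (hle l) s
  rw [← toc_rs, show rs (F.obj P) (hle l) g = tr F hMP (T l) from hg l, toc_tr, toc_tr, ht]

end Groth.Agent.ShDirColim
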